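import Cfsg.Agent.H152.QA.Defs
import Cfsg.Agent.H80.Fpf.Mult

/-!
# S4979, layer (A), task A-T2: generation by Sylow subgroups (helper306)

* `Sit.chain` : `m` Sylow `p`-subgroups generate `L`, `(p + 1) ^ (m - 1) ≤ |S|_{p'}`, `|V| ≤ n_p ^ m`;
* `Sit.two_gen`.
-/

set_option autoImplicit false
set_option linter.unusedSectionVars false

open Cfsg

namespace Cfsg.Agent.H306.QA

open Cfsg.Agent.H80.Fpf Cfsg.Agent.H152.QA
open scoped Pointwise commutatorElement

/-! ### the chain in a finite group -/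

/-- the join of `H` and Sylow subgroups -/
def sups {S : Type} [Group S] {p : ℕ} (l : List (Sylow p S)) (H : Subgroup S) : Subgroup S :=
  l.foldr (fun (P : Sylow p S) (K : Subgroup S) => (P : Subgroup S) ⊔ K) H

theorem sups_append {S : Type} [Group S] {p : ℕ} (l l' : List (Sylow p S)) (H : Subgroup S) :
    sups (l ++ l') H = sups l (sups l' H) := List.foldr_append

section chain

variable {S : Type} [Group S] [Finite S] {p : ℕ}

/-- a Sylow subgroup outside of `H` enlarges `H` (which contains a Sylow subgroup) at least `p + 1` times -/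
theorem le_card_sup (hp : p.Prime) {H : Subgroup S} {P₀ P : Sylow p S} (h₀ : (P₀ : Subgroup S) ≤ H)
    (hP : ¬ (P : Subgroup S) ≤ H) : (p + 1) * Nat.card H ≤ Nat.card ↥((P : Subgroup S) ⊔ H) := by
  have := Fact.mk hp
  set K : Subgroup S := (P : Subgroup S) ⊔ H with hK
  have hHK : H ≤ K := le_sup_right
  have hPK : (P : Subgroup S) ≤ K := le_sup_left
  have h1 : H.relIndex K * Nat.card H = Nat.card K := by
    have e1 := Subgroup.relIndex_mul_relIndex ⊥ H K bot_le hHK
    rw [Subgroup.relIndex_bot_left, Subgroup.relIndex_bot_left] at e1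
    rw [mul_comm]; exact e1
  have h2 : ¬ p ∣ H.relIndex K := by
    intro h
    have h3 : H.relIndex K ∣ (P₀ : Subgroup S).index :=
      (Subgroup.relIndex_dvd_index_of_le (h₀.trans hHK) |> fun _ => by
        have e1 := Subgroup.relIndex_mul_relIndex _ _ _ h₀ hHK
        have e2 : (P₀ : Subgroup S).relIndex K ∣ (P₀ : Subgroup S).index :=
          ⟨K.index, (Subgroup.relIndex_mul_index (h₀.trans hHK)).symm⟩
        exact (Dvd.intro_left _ e1).trans e2)
    exact P₀.not_dvd_index (h.trans h3)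
  have h3 : p ≤ H.relIndex K := by
    by_contra h4
    apply hP
    set H' := H.subgroupOf K
    set P' := (P : Subgroup S).subgroupOf K
    have hP' : IsPGroup p P' := P.isPGroup'.comap_subtype
    have e1 : Nat.card (K ⧸ H') = H.relIndex K := rfl
    have e2 := hP'.card_modEq_card_fixedPoints (K ⧸ H')
    have e3 : Nat.card (MulAction.fixedPoints P' (K ⧸ H')) ≤ Nat.card (K ⧸ H') :=
      Nat.card_le_card_of_injective _ Subtype.val_injective
    have e4 : Nat.card (K ⧸ H') = Nat.card (MulAction.fixedPoints P' (K ⧸ H')) := by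
      have e5 : Nat.card (K ⧸ H') < p := by rw [e1]; omega
      rw [Nat.ModEq, Nat.mod_eq_of_lt e5, Nat.mod_eq_of_lt (lt_of_le_of_lt e3 e5)] at e2
      exact e2
    have e5 : MulAction.fixedPoints P' (K ⧸ H') = Set.univ := by
      apply Set.eq_of_subset_of_ncard_le (Set.subset_univ _)
      rw [Set.ncard_univ, e4]
      exact le_refl _
    intro x hx
    have e6 : ((1 : K) : K ⧸ H') ∈ MulAction.fixedPoints P' (K ⧸ H') := by rw [e5]; trivial
    have e7 := e6 ⟨⟨x, hPK hx⟩, hx⟩
    have e8 : (((⟨x, hPK hx⟩ : K) * 1 : K) : K ⧸ H') = ((1 : K) : K ⧸ H') := e7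
    rw [mul_one, QuotientGroup.eq] at e8
    have e9 := H'.inv_mem e8
    rw [mul_one, inv_inv] at e9
    exact e9
  have h4 : p + 1 ≤ H.relIndex K := by
    rcases h3.lt_or_eq with h | h
    · exact h
    · exact absurd (dvd_of_eq h) h2
  calc (p + 1) * Nat.card H ≤ H.relIndex K * Nat.card H := Nat.mul_le_mul_right _ h4
    _ = Nat.card K := h1

/-- the chain above `H` -/
theorem exists_list_above (hp : p.Prime) (hS : ∀ H : Subgroup S, (∀ P : Sylow p S, (P : Subgroup S) ≤ H) → H = ⊤) :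
    ∀ (n : ℕ) (H : Subgroup S) (P₀ : Sylow p S), (P₀ : Subgroup S) ≤ H → Nat.card S ≤ Nat.card H + n →
      ∃ l : List (Sylow p S), sups l H = ⊤ ∧
        (p + 1) ^ l.length * Nat.card H ≤ Nat.card S := by
  intro n
  induction n with
  | zero =>
    intro H P₀ _ h
    refine ⟨[], ?_, ?_⟩
    · exact Subgroup.eq_top_of_card_eq H (le_antisymm (Subgroup.card_le_card_group H) h)
    · rw [List.length_nil, pow_zero, one_mul]; exact Subgroup.card_le_card_group H
  | succ n ih =>
    intro H P₀ h₀ h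
    by_cases hH : H = ⊤
    · refine ⟨[], hH, ?_⟩
      rw [List.length_nil, pow_zero, one_mul]; exact Subgroup.card_le_card_group H
    · obtain ⟨P, hP⟩ : ∃ P : Sylow p S, ¬ (P : Subgroup S) ≤ H := by
        by_contra hc
        push Not at hc
        exact hH (hS H hc)
      have h1 := le_card_sup hp h₀ hP
      have h2 : 0 < Nat.card H := Nat.card_pos
      have h3 : Nat.card H + 1 ≤ Nat.card ↥((P : Subgroup S) ⊔ H) := by
        have := hp.two_le
        nlinarith
      obtain ⟨l, hl, hle⟩ := ih ((P : Subgroup S) ⊔ H) P₀ (h₀.trans le_sup_right) (by omega)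
      refine ⟨l ++ [P], ?_, ?_⟩
      · rw [sups_append]
        exact hl
      · rw [List.length_append, List.length_singleton, pow_succ, mul_assoc]
        exact (Nat.mul_le_mul_left _ h1).trans hle

/-- **Sylow subgroups generating `S`** -/
theorem exists_list (hp : p.Prime) (hS : ∀ H : Subgroup S, (∀ P : Sylow p S, (P : Subgroup S) ≤ H) → H = ⊤) :
    ∃ l : List (Sylow p S), l ≠ [] ∧ sups l ⊥ = ⊤ ∧
      (p + 1) ^ (l.length - 1) ≤ ordCompl[p] (Nat.card S) := by
  have := Fact.mk hp
  obtain ⟨P₀⟩ : Nonempty (Sylow p S) := inferInstance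
  obtain ⟨l, hl, hle⟩ := exists_list_above hp hS (Nat.card S) P₀ P₀ le_rfl (by omega)
  refine ⟨l ++ [P₀], by simp, ?_, ?_⟩
  · rw [sups_append]
    change sups l ((P₀ : Subgroup S) ⊔ ⊥) = ⊤
    rwa [sup_bot_eq]
  · rw [List.length_append, List.length_singleton, Nat.add_sub_cancel]
    have h1 : Nat.card P₀ = p ^ (Nat.card S).factorization p := P₀.card_eq_multiplicity
    rw [Nat.le_div_iff_mul_le (Nat.pos_of_ne_zero (by
      exact pow_ne_zero _ hp.ne_zero)), ← h1]
    exact hle

end chain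

/-- in a simple group -/
theorem eq_top_of_sylow {S : Type} [Group S] [Finite S] [IsSimpleGroup S] {p : ℕ} (hp : p.Prime)
    (hpS : p ∣ Nat.card S) (H : Subgroup S) (h : ∀ P : Sylow p S, (P : Subgroup S) ≤ H) : H = ⊤ := by
  have := Fact.mk hp
  have hn : (⨆ P : Sylow p S, (P : Subgroup S)).Normal := by
    constructor
    intro x hx g
    have h1 : (⨆ P : Sylow p S, (P : Subgroup S)).map (MulAut.conj g).toMonoidHom ≤
        ⨆ P : Sylow p S, (P : Subgroup S) := by
      rw [Subgroup.map_iSup]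
      refine iSup_le fun P => ?_
      exact le_iSup (fun P : Sylow p S => (P : Subgroup S)) (g • P)
    exact h1 (Subgroup.mem_map_of_mem _ hx)
  rcases hn.eq_bot_or_eq_top with h1 | h1
  · exfalso
    obtain ⟨P⟩ : Nonempty (Sylow p S) := inferInstance
    have h2 : (P : Subgroup S) = ⊥ := by
      rw [eq_bot_iff, ← h1]
      exact le_iSup (fun P : Sylow p S => (P : Subgroup S)) P
    have h3 : Nat.card P = 1 := by
      rw [show Nat.card P = Nat.card (P : Subgroup S) from rfl, h2, Subgroup.card_bot]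
    have h4 := P.dvd_card_of_dvd_card hpS
    rw [h3] at h4
    exact hp.one_lt.ne' (Nat.dvd_one.1 h4)
  · rw [eq_top_iff, ← h1]
    exact iSup_le h

/-! ### the module -/

section

variable {p q : ℕ} {L V S : Type} [Group L] [Finite L] [AddCommGroup V] [Finite V] [DistribMulAction L V]
  [Group S] [Finite S] [IsSimpleGroup S] {π : L →* S} {N : Subgroup L} {φ : N →* ℂˣ}

/-- the Sylow subgroups of the cover -/
theorem mapSurjective_inj (h : Sit (V := V) p q N φ) (hπ : IsCover π) [Fact p.Prime] :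
    Function.Injective (Sylow.mapSurjective hπ.surj : Sylow p L → Sylow p S) := by
  have key : ∀ P Q : Sylow p L, Sylow.mapSurjective hπ.surj P = Sylow.mapSurjective hπ.surj Q →
      (P : Subgroup L) ≤ Q := by
    intro P Q hPQ x hx
    have h1 : π x ∈ (Sylow.mapSurjective hπ.surj P : Subgroup S) := Subgroup.mem_map_of_mem π hx
    rw [hPQ] at h1
    obtain ⟨y, hy, hxy⟩ := h1
    have hz : x * y⁻¹ ∈ π.ker := by rw [MonoidHom.mem_ker, map_mul, map_inv, hxy, mul_inv_cancel]
    have hzc := hπ.central hz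
    obtain ⟨a, ha⟩ := P.isPGroup' ⟨x, hx⟩
    obtain ⟨b, hb⟩ := Q.isPGroup' ⟨y, hy⟩
    have ha' : x ^ p ^ a = 1 := congrArg (fun t : P => (t : L)) ha
    have hb' : y ^ p ^ b = 1 := congrArg (fun t : Q => (t : L)) hb
    have hxa : x ^ p ^ (a + b) = 1 := by rw [pow_add, pow_mul, ha', one_pow]
    have hyb : y ^ p ^ (a + b) = 1 := by rw [pow_add, mul_comm, pow_mul, hb', one_pow]
    have hcomm : Commute (x * y⁻¹) y := (Subgroup.mem_center_iff.1 hzc y).symm
    have h2 : (x * y⁻¹) ^ p ^ (a + b) = 1 := by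
      have h3 := hcomm.mul_pow (p ^ (a + b))
      rw [inv_mul_cancel_right, hxa, hyb, mul_one] at h3
      exact h3.symm
    have h3 : orderOf (x * y⁻¹) ∣ p ^ (a + b) := orderOf_dvd_of_pow_eq_one h2
    have h4 : orderOf (x * y⁻¹) ∣ Nat.card (Subgroup.center L) := by
      have h5 := orderOf_dvd_natCard (⟨x * y⁻¹, hzc⟩ : Subgroup.center L)
      rwa [Subgroup.orderOf_mk] at h5
    have h5 : Nat.Coprime (p ^ (a + b)) (Nat.card (Subgroup.center L)) :=
      ((h.hp.coprime_iff_not_dvd).2 h.pZ).pow_left _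
    have h6 : orderOf (x * y⁻¹) = 1 := Nat.eq_one_of_dvd_coprimes h5 h3 h4
    rw [orderOf_eq_one_iff, mul_inv_eq_one] at h6
    rw [h6]
    exact hy
  intro P Q hPQ
  exact Sylow.ext (le_antisymm (key P Q hPQ) (key Q P hPQ.symm))

theorem card_sylow_le (h : Sit (V := V) p q N φ) (hπ : IsCover π) :
    Nat.card (Sylow p L) ≤ Nat.card (Sylow p S) := by
  have := Fact.mk h.hp
  exact Nat.card_le_card_of_injective _ (mapSurjective_inj h hπ)

/-- every vector is fixed by a Sylow subgroup -/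
theorem exists_sylow (h : Sit (V := V) p q N φ) (v : V) : ∃ Q : Sylow p L, v ∈ fixV L V Q := by
  have := Fact.mk h.hp
  obtain ⟨Q⟩ : Nonempty (Sylow p L) := inferInstance
  have h1 : ¬ p ∣ Nat.card (L ⧸ MulAction.stabilizer L v) := h.P1 v
  obtain ⟨c, hc⟩ := Q.isPGroup'.nonempty_fixed_point_of_prime_not_dvd_card (L ⧸ MulAction.stabilizer L v) h1
  obtain ⟨g, rfl⟩ := QuotientGroup.mk_surjective c
  refine ⟨g⁻¹ • Q, ?_⟩
  intro x hx
  rw [Sylow.coe_subgroup_smul] at hx
  have h2 : g * x * g⁻¹ ∈ Q := by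
    rw [Subgroup.mem_pointwise_smul_iff_inv_smul_mem] at hx
    have h3 : g * x * g⁻¹ ∈ (Q : Subgroup L) := by simpa using hx
    exact h3
  have h3 := hc ⟨g * x * g⁻¹, h2⟩
  have h4 : ((g * x * g⁻¹ * g : L) : L ⧸ MulAction.stabilizer L v) = (g : L ⧸ MulAction.stabilizer L v) := h3
  rw [inv_mul_cancel_right, QuotientGroup.eq, MulAction.mem_stabilizer_iff] at h4
  have h5 : x⁻¹ • v = v := by
    have e : (g * x)⁻¹ * g = x⁻¹ := by group
    rwa [e] at h4
  rw [inv_smul_eq_iff] at h5
  exact h5.symm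

theorem card_fixV_smul (Q : Sylow p L) (g : L) :
    Nat.card (fixV L V (g • Q : Sylow p L)) = Nat.card (fixV L V Q) := by
  have a1 : ∀ v : fixV L V Q, g • (v : V) ∈ fixV L V (g • Q : Sylow p L) := by
    intro v x hx
    rw [Sylow.coe_subgroup_smul, Subgroup.mem_pointwise_smul_iff_inv_smul_mem] at hx
    have h2 : g⁻¹ * x * g ∈ (Q : Subgroup L) := by simpa using hx
    have h3 := v.2 _ h2
    rw [mul_smul, mul_smul, inv_smul_eq_iff] at h3
    exact h3
  have a2 : ∀ v : fixV L V (g • Q : Sylow p L), g⁻¹ • (v : V) ∈ fixV L V Q := by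
    intro v x hx
    have h2 : g * x * g⁻¹ ∈ ((g • Q : Sylow p L) : Subgroup L) := by
      rw [Sylow.coe_subgroup_smul, Subgroup.mem_pointwise_smul_iff_inv_smul_mem]
      have e : (MulAut.conj g)⁻¹ • (g * x * g⁻¹) = x := by simp [mul_assoc]
      rw [e]
      exact hx
    have h3 := v.2 _ h2
    rw [mul_smul, mul_smul] at h3
    rw [eq_inv_smul_iff]
    exact h3
  exact (Nat.card_congr
    { toFun := fun v : fixV L V Q => (⟨g • (v : V), a1 v⟩ : fixV L V (g • Q : Sylow p L))
      invFun := fun v => ⟨g⁻¹ • (v : V), a2 v⟩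
      left_inv := fun v => Subtype.ext (inv_smul_smul g (v : V))
      right_inv := fun v => Subtype.ext (smul_inv_smul g (v : V)) }).symm

/-- `|V : C_V(Q)| ≤ n_p` -/
theorem index_fixV (h : Sit (V := V) p q N φ) (hπ : IsCover π) (Q : Sylow p L) :
    (fixV L V Q).index ≤ Nat.card (Sylow p S) := by
  have := Fact.mk h.hp
  have h1 : Nat.card V ≤ Nat.card (Sylow p L × fixV L V Q) := by
    have e : ∀ R : Sylow p L, Nonempty (fixV L V Q ≃ fixV L V R) := by
      intro R
      obtain ⟨g, rfl⟩ := MulAction.exists_smul_eq L Q R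
      exact Finite.card_eq.1 (card_fixV_smul Q g).symm
    refine Nat.card_le_card_of_surjective
      (fun r : Sylow p L × fixV L V Q => (((e r.1).some r.2 : fixV L V r.1) : V)) fun v => ?_
    obtain ⟨R, hR⟩ := exists_sylow h v
    exact ⟨(R, (e R).some.symm ⟨v, hR⟩), by simp⟩
  have h2 : Nat.card (Sylow p L × fixV L V Q) = Nat.card (Sylow p L) * Nat.card (fixV L V Q) := Nat.card_prod _ _
  have h3 : (fixV L V Q).index * Nat.card (fixV L V Q) = Nat.card V := AddSubgroup.index_mul_card _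
  have h4 : 0 < Nat.card (fixV L V Q) := Nat.card_pos
  have h5 : (fixV L V Q).index ≤ Nat.card (Sylow p L) := by
    refine Nat.le_of_mul_le_mul_right ?_ h4
    rw [h3, ← h2]
    exact h1
  exact h5.trans (card_sylow_le h hπ)

theorem fixV_sup (X Y : Subgroup L) : fixV L V X ⊓ fixV L V Y ≤ fixV L V (X ⊔ Y) := by
  intro v hv
  have h1 : X ⊔ Y ≤ MulAction.stabilizer L v := sup_le (fun g hg => hv.1 g hg) (fun g hg => hv.2 g hg)
  exact fun g hg => h1 hg

theorem index_fold (h : Sit (V := V) p q N φ) (hπ : IsCover π) (l : List (Sylow p L)) :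
    (fixV L V (sups l ⊥)).index ≤ Nat.card (Sylow p S) ^ l.length := by
  induction l with
  | nil =>
    change (fixV L V ⊥).index ≤ _
    rw [List.length_nil, pow_zero]
    have h1 : fixV L V (⊥ : Subgroup L) = ⊤ := by
      rw [eq_top_iff]
      intro v _ g hg
      rw [Subgroup.mem_bot] at hg
      rw [hg, one_smul]
    rw [h1, AddSubgroup.index_top]
  | cons P l ih =>
    change (fixV L V ((P : Subgroup L) ⊔ sups l ⊥)).index ≤ _
    rw [List.length_cons, pow_succ']
    set X := sups l (⊥ : Subgroup L)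
    have h1 := AddSubgroup.index_inf_le (H := fixV L V (P : Subgroup L)) (K := fixV L V X)
    have h2 : (fixV L V ((P : Subgroup L) ⊔ X)).index ≤ (fixV L V (P : Subgroup L) ⊓ fixV L V X).index :=
      Nat.le_of_dvd (Nat.pos_of_ne_zero AddSubgroup.FiniteIndex.index_ne_zero)
        (AddSubgroup.index_dvd_of_le (fixV_sup _ _))
    exact h2.trans (h1.trans (Nat.mul_le_mul (index_fixV h hπ P) ih))

/-- a subgroup of a cover which maps onto `S` is the cover -/
theorem eq_top_of_map (hπ : IsCover π) (X : Subgroup L) (hX : X.map π = ⊤) : X = ⊤ := by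
  rw [eq_top_iff, ← hπ.perf, commutator_def, Subgroup.commutator_le]
  intro a _ b _
  have key : ∀ a : L, ∃ x ∈ X, ∃ z ∈ Subgroup.center L, a = x * z := by
    intro a
    have h1 : π a ∈ X.map π := by rw [hX]; trivial
    obtain ⟨x, hx, hxa⟩ := h1
    refine ⟨x, hx, x⁻¹ * a, hπ.central ?_, (mul_inv_cancel_left x a).symm⟩
    rw [MonoidHom.mem_ker, map_mul, map_inv, hxa, inv_mul_cancel]
  obtain ⟨x, hx, z, hz, rfl⟩ := key a
  obtain ⟨y, hy, w, hw, rfl⟩ := key b
  have hz' := Subgroup.mem_center_iff.1 hz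
  have hw' := Subgroup.mem_center_iff.1 hw
  have e : ⁅x * z, y * w⁆ = x * y * x⁻¹ * y⁻¹ := by
    rw [commutatorElement_def]
    calc x * z * (y * w) * (x * z)⁻¹ * (y * w)⁻¹ = x * (z * (y * w)) * z⁻¹ * x⁻¹ * (w⁻¹ * y⁻¹) := by group
      _ = x * ((y * w) * z) * z⁻¹ * x⁻¹ * (w⁻¹ * y⁻¹) := by rw [hz' (y * w)]
      _ = x * y * (w * x⁻¹) * w⁻¹ * y⁻¹ := by group
      _ = x * y * (x⁻¹ * w) * w⁻¹ * y⁻¹ := by rw [hw' x⁻¹]
      _ = x * y * x⁻¹ * y⁻¹ := by group
  rw [e]
  exact X.mul_mem (X.mul_mem (X.mul_mem hx hy) (X.inv_mem hx)) (X.inv_mem hy)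

theorem fixV_top (h : Sit (V := V) p q N φ) (hπ : IsCover π) : fixV L V ⊤ = ⊥ := by
  rcases h.irr (fixV L V ⊤) (fun g w hw => by rw [hw g trivial]; exact hw) with h1 | h1
  · exact h1
  · exfalso
    have h2 : N = ⊤ := by
      rw [eq_top_iff]
      intro g _
      rw [← h.ker]
      intro v
      have h3 : v ∈ fixV L V ⊤ := by rw [h1]; trivial
      exact h3 g trivial
    have h3 : commutator L = ⊥ := by
      rw [eq_bot_iff, commutator_def, Subgroup.commutator_le]
      intro a _ b _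
      rw [Subgroup.mem_bot, commutatorElement_eq_one_iff_mul_comm]
      have h4 : a ∈ Subgroup.center L := h.cen (by rw [h2]; trivial)
      exact (Subgroup.mem_center_iff.1 h4 b).symm
    rw [hπ.perf] at h3
    apply h.Nne
    rw [eq_bot_iff, ← h3]
    exact le_top

theorem p_dvd (h : Sit (V := V) p q N φ) (hπ : IsCover π) : p ∣ Nat.card S := by
  have h1 : Nat.card L = Nat.card π.ker * Nat.card S := by
    have h3 := Subgroup.card_eq_card_quotient_mul_card_subgroup π.ker
    rw [Nat.card_congr (QuotientGroup.quotientKerEquivOfSurjective π hπ.surj).toEquiv] at h3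
    rw [h3, mul_comm]
  have h2 := h.pL
  rw [h1] at h2
  refine (h.hp.dvd_mul.1 h2).resolve_left fun h3 => ?_
  exact h.pZ (h3.trans (Subgroup.card_dvd_of_le hπ.central))

theorem q_not_dvd (h : Sit (V := V) p q N φ) (hπ : IsCover π) : ¬ q ∣ Nat.card S := by
  intro h1
  apply h.qL
  have h3 := Subgroup.card_eq_card_quotient_mul_card_subgroup π.ker
  rw [Nat.card_congr (QuotientGroup.quotientKerEquivOfSurjective π hπ.surj).toEquiv] at h3
  rw [h3]
  exact h1.mul_right _

/-- Sylow subgroups of `S` which generate it bound `V` -/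
theorem card_le_of_list (h : Sit (V := V) p q N φ) (hπ : IsCover π) (l : List (Sylow p S))
    (hl : sups l ⊥ = ⊤) : Nat.card V ≤ Nat.card (Sylow p S) ^ l.length := by
  have := Fact.mk h.hp
  choose f hf using Sylow.mapSurjective_surjective hπ.surj p
  have h1 : ∀ l : List (Sylow p S), (sups (l.map f) ⊥).map π = sups l ⊥ := by
    intro l
    induction l with
    | nil => exact Subgroup.map_bot π
    | cons P l ih =>
      change (((f P : Sylow p L) : Subgroup L) ⊔ sups (l.map f) ⊥).map π = (P : Subgroup S) ⊔ sups l ⊥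
      rw [Subgroup.map_sup, ih]
      congr 1
      exact congrArg (fun T : Sylow p S => (T : Subgroup S)) (hf P)
  have h2 := eq_top_of_map hπ _ ((h1 l).trans hl)
  have h3 := index_fold h hπ (l.map f)
  rw [h2, fixV_top h hπ, AddSubgroup.index_bot, List.length_map] at h3
  exact h3

/-- **Chain criterion**: `m` Sylow `p`-subgroups generate `L`, `(p + 1) ^ (m - 1) ≤ |S|_{p'}`. -/
theorem Sit.chain (h : Sit (V := V) p q N φ) (hπ : IsCover π) :
    ∃ m : ℕ, 1 ≤ m ∧ (p + 1) ^ (m - 1) ≤ ordCompl[p] (Nat.card S) ∧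
      Nat.card V ≤ (Nat.card (Sylow p S)) ^ m := by
  obtain ⟨l, hl0, hl, hle⟩ := exists_list (S := S) h.hp (eq_top_of_sylow h.hp (p_dvd h hπ))
  exact ⟨l.length, List.length_pos_iff.2 hl0, hle, card_le_of_list h hπ l hl⟩

/-- two Sylow subgroups generate -/
theorem Sit.two_gen (h : Sit (V := V) p q N φ) (hπ : IsCover π)
    (hg : ∃ P Q : Sylow p S, (P : Subgroup S) ⊔ Q = ⊤) : Nat.card V ≤ (Nat.card (Sylow p S)) ^ 2 := by
  obtain ⟨P, Q, hPQ⟩ := hg
  refine card_le_of_list h hπ [P, Q] ?_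
  change (P : Subgroup S) ⊔ ((Q : Subgroup S) ⊔ ⊥) = ⊤
  rw [sup_bot_eq]
  exact hPQ

/-- the number of Sylow subgroups -/
theorem card_sylow_le_ordCompl (hp : p.Prime) : Nat.card (Sylow p S) ≤ ordCompl[p] (Nat.card S) := by
  have := Fact.mk hp
  obtain ⟨P⟩ : Nonempty (Sylow p S) := inferInstance
  have h1 : Nat.card (Sylow p S) ∣ (P : Subgroup S).index := Sylow.card_dvd_index P
  have h2 : Nat.card P = p ^ (Nat.card S).factorization p := P.card_eq_multiplicity
  have h3 : (P : Subgroup S).index * Nat.card P = Nat.card S := Subgroup.index_mul_card _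
  have h4 : (P : Subgroup S).index = ordCompl[p] (Nat.card S) := by
    rw [← h2]
    exact (Nat.div_eq_of_eq_mul_left Nat.card_pos h3.symm).symm
  rw [← h4]
  exact Nat.le_of_dvd (Nat.pos_of_ne_zero Subgroup.FiniteIndex.index_ne_zero) h1

end

end Cfsg.Agent.H306.QA
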