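import Mathlib

/-!
# Elements of prime order conjugate to their powers (helper306)

`isConj_pow_of_card`: `x` of prime order `p`, `|N(⟨x⟩)| = |C(x)| e`; then `x` is conjugate to `x ^ k` for all `k ^ e = 1` mod `p`.
-/

set_option autoImplicit false

namespace Cfsg.Agent.H306.QA

open Subgroup

theorem centralizer_le_normalizer' {S : Type*} [Group S] (X : Subgroup S) :
    centralizer (X : Set S) ≤ normalizer (X : Set S) := by
  intro c hc
  rw [Subgroup.mem_normalizer_iff]
  intro h
  constructor
  · intro hh
    have h1 := mem_centralizer_iff.1 hc h hh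
    rw [← h1, mul_inv_cancel_right]
    exact hh
  · intro hh
    have h1 := mem_centralizer_iff.1 hc _ hh
    have h2 : c * h * c⁻¹ = h := by
      have h3 : c * h * c⁻¹ * c = c * (c * h * c⁻¹) := h1
      have h4 : c * h = c * (c * h * c⁻¹) := by rw [← h3]; group
      exact (mul_left_cancel h4).symm
    rw [h2] at hh
    exact hh

theorem card_ker_normalizerMonoidHom {S : Type*} [Group S] (x : S) :
    Nat.card (Subgroup.normalizerMonoidHom (zpowers x)).ker = Nat.card (centralizer ({x} : Set S)) := by
  have hcent : centralizer ((zpowers x : Subgroup S) : Set S) = centralizer ({x} : Set S) := by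
    rw [zpowers_eq_closure, centralizer_closure]
  rw [normalizerMonoidHom_ker, Nat.card_congr (subgroupOfEquivOfLe (centralizer_le_normalizer' (zpowers x))).toEquiv, hcent]

/-- `|N(⟨x⟩)| = |C(x)| e` with `e ∣ p - 1` -/
theorem exists_card_normalizer {S : Type*} [Group S] [Finite S] {p : ℕ} (hp : p.Prime) {x : S} (hx : orderOf x = p) :
    ∃ e : ℕ, e ∣ p - 1 ∧
      Nat.card (normalizer ((zpowers x : Subgroup S) : Set S)) = Nat.card (centralizer ({x} : Set S)) * e := by
  have hpf : Fact p.Prime := ⟨hp⟩
  have hXc : Nat.card (zpowers x) = p := by rw [Nat.card_zpowers, hx]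
  have hcyc : IsCyclic (zpowers x) := isCyclic_of_prime_card hXc
  refine ⟨Nat.card (Subgroup.normalizerMonoidHom (zpowers x)).range, ?_, ?_⟩
  · have h1 := IsCyclic.card_mulAut (zpowers x)
    rw [hXc, Nat.totient_prime hp] at h1
    rw [← h1]
    exact Subgroup.card_subgroup_dvd_card _
  · have h1 := Subgroup.card_mul_index (Subgroup.normalizerMonoidHom (zpowers x)).ker
    rw [Subgroup.index_ker, card_ker_normalizerMonoidHom] at h1
    exact h1.symm

/-- the same with Sylow's theorem: `p` exactly divides `|S|` -/
theorem exists_card_normalizer' {S : Type*} [Group S] [Finite S] {p : ℕ} (hp : p.Prime) {x : S} (hx : orderOf x = p)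
    (hS : ¬ p ^ 2 ∣ Nat.card S) :
    ∃ e : ℕ, e ∣ p - 1 ∧
      Nat.card (normalizer ((zpowers x : Subgroup S) : Set S)) = Nat.card (centralizer ({x} : Set S)) * e ∧
      (normalizer ((zpowers x : Subgroup S) : Set S)).index % p = 1 ∧
      Nat.card (centralizer ({x} : Set S)) * e * (normalizer ((zpowers x : Subgroup S) : Set S)).index = Nat.card S := by
  have hpf : Fact p.Prime := ⟨hp⟩
  have hXc : Nat.card (zpowers x) = p := by rw [Nat.card_zpowers, hx]
  obtain ⟨e, he, hN⟩ := exists_card_normalizer hp hx
  refine ⟨e, he, hN, ?_, ?_⟩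
  · -- `⟨x⟩` is a Sylow subgroup
    have hpg : IsPGroup p (zpowers x) := IsPGroup.of_card (n := 1) (by rw [hXc, pow_one])
    obtain ⟨P, hP⟩ := hpg.exists_le_sylow
    have hPX : (P : Subgroup S) = zpowers x := by
      symm
      apply Subgroup.eq_of_le_of_card_ge hP
      rw [hXc]
      obtain ⟨n, hn⟩ := IsPGroup.iff_card.1 P.isPGroup'
      have hn' : Nat.card P = p ^ n := hn
      have h1 : p ^ n ∣ Nat.card S := by rw [← hn']; exact card_subgroup_dvd_card (P : Subgroup S)
      have h2 : n ≤ 1 := by
        by_contra hc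
        exact hS ((pow_dvd_pow p (by omega)).trans h1)
      rw [hn']
      calc p ^ n ≤ p ^ 1 := Nat.pow_le_pow_right hp.pos h2
        _ = p := pow_one p
    have h1 := card_sylow_modEq_one p S
    rw [Sylow.card_eq_index_normalizer P] at h1
    have h3 : ((P : Set S)) = ((zpowers x : Subgroup S) : Set S) := by rw [← hPX]; rfl
    rw [h3] at h1
    have h2 : 1 % p = 1 := Nat.mod_eq_of_lt hp.one_lt
    exact Eq.trans h1 h2
  · rw [← hN, Subgroup.card_mul_index]

/-- `x` of prime order `p`, `|N(⟨x⟩)| = |C(x)| e`: `x` is conjugate to `x ^ k`, `k ^ e = 1` mod `p` -/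
theorem isConj_pow_of_card {S : Type*} [Group S] [Finite S] {p e : ℕ} (hp : p.Prime) {x : S} (hx : orderOf x = p)
    (hN : Nat.card (normalizer ((zpowers x : Subgroup S) : Set S)) = Nat.card (centralizer ({x} : Set S)) * e)
    {k : ℕ} (hk : k ^ e % p = 1) : IsConj x (x ^ k) := by
  classical
  have hpf : Fact p.Prime := ⟨hp⟩
  set X : Subgroup S := zpowers x with hX
  have hXc : Nat.card X = p := by rw [hX, Nat.card_zpowers, hx]
  have hcyc : IsCyclic X := isCyclic_of_prime_card hXc
  have he0 : 0 < e := by
    rcases Nat.eq_zero_or_pos e with h | h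
    · rw [h, mul_zero] at hN
      exact absurd hN Nat.card_pos.ne'
    · exact h
  let N := normalizer (X : Set S)
  let f : N →* MulAut X := X.normalizerMonoidHom
  have hcent : centralizer (X : Set S) = centralizer ({x} : Set S) := by
    rw [hX, zpowers_eq_closure, centralizer_closure]
  have hle : centralizer (X : Set S) ≤ N := by
    intro c hc
    rw [Subgroup.mem_normalizer_iff]
    intro h
    constructor
    · intro hh
      have h1 := mem_centralizer_iff.1 hc h hh
      rw [← h1, mul_inv_cancel_right]
      exact hh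
    · intro hh
      have h1 := mem_centralizer_iff.1 hc _ hh
      have h2 : c * h * c⁻¹ = h := by
        have h3 : c * h * c⁻¹ * c = c * (c * h * c⁻¹) := h1
        have h4 : c * h = c * (c * h * c⁻¹) := by rw [← h3]; group
        exact (mul_left_cancel h4).symm
      rw [h2] at hh
      exact hh
  have hker : Nat.card f.ker = Nat.card (centralizer ({x} : Set S)) := by
    rw [show f.ker = (centralizer (X : Set S)).subgroupOf N from normalizerMonoidHom_ker X,
      Nat.card_congr (subgroupOfEquivOfLe hle).toEquiv, hcent]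
  have hR : Nat.card f.range = e := by
    have h1 := Subgroup.card_mul_index f.ker
    rw [Subgroup.index_ker, hker] at h1
    have h2 : Nat.card N = Nat.card (centralizer ({x} : Set S)) * e := hN
    rw [h2] at h1
    exact Nat.eq_of_mul_eq_mul_left Nat.card_pos h1
  -- the automorphism group is cyclic
  let ε : MulAut X ≃* (ZMod (Nat.card X))ˣ := IsCyclic.mulAutMulEquiv X
  have hcycA : IsCyclic (MulAut X) := by
    have h1 : IsCyclic (ZMod (Nat.card X))ˣ := by
      rw [hXc]
      infer_instance
    exact isCyclic_of_injective ε.toMonoidHom ε.injective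
  have := Fintype.ofFinite (MulAut X)
  -- the `k`-th power map
  have hkp : k.Coprime p := by
    have h1 : (k ^ e).Coprime p := by
      have h2 : (k ^ e % p).Coprime p := by rw [hk]; exact Nat.coprime_one_left p
      rw [Nat.coprime_iff_gcd_eq_one] at h2 ⊢
      rw [← h2]
      exact (Nat.mod_modEq (k ^ e) p).gcd_eq.symm
    exact (Nat.coprime_pow_left_iff he0 k p).1 h1
  have hpow : ∀ y : X, y ^ p = 1 := fun y => by rw [← hXc]; exact pow_card_eq_one'
  have hke : ∀ y : X, y ^ (k ^ e) = y := by
    intro y
    have h1 : k ^ e = p * (k ^ e / p) + 1 := by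
      have := Nat.div_add_mod (k ^ e) p
      rw [hk] at this
      exact this.symm
    rw [h1, pow_add, pow_mul, hpow, one_pow, one_mul, pow_one]
  have hcomm : ∀ a b : X, a * b = b * a := by
    have := IsCyclic.isMulCommutative (α := X)
    exact fun a b => mul_comm' a b
  let a0 : X →* X := { toFun := fun y => y ^ k, map_one' := one_pow k, map_mul' := fun a b => Commute.mul_pow (hcomm a b) k }
  have ha0 : ∀ (n : ℕ) (y : X), a0^[n] y = y ^ (k ^ n) := by
    intro n
    induction n with
    | zero => intro y; simp
    | succ n ih =>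
      intro y
      rw [Function.iterate_succ_apply', ih]
      show (y ^ (k ^ n)) ^ k = _
      rw [← pow_mul, pow_succ]
  have hinj : Function.Injective a0 := by
    intro u v huv
    have h1 : a0^[e] u = a0^[e] v := by
      obtain ⟨e', rfl⟩ : ∃ e', e = e' + 1 := ⟨e - 1, by omega⟩
      rw [Function.iterate_succ_apply, Function.iterate_succ_apply, huv]
    rw [ha0, ha0, hke, hke] at h1
    exact h1
  let a : MulAut X := MulEquiv.ofBijective a0 ((Finite.injective_iff_bijective).1 hinj)
  have ha : ∀ (n : ℕ) (y : X), (a ^ n) y = y ^ (k ^ n) := by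
    intro n
    induction n with
    | zero => intro y; simp
    | succ n ih =>
      intro y
      rw [pow_succ', MulAut.mul_apply, ih]
      show (y ^ (k ^ n)) ^ k = _
      rw [← pow_mul, pow_succ]
  have hae : a ^ e = 1 := by
    apply MulEquiv.ext
    intro y
    rw [ha, hke]
    rfl
  -- counting
  have hsub : (Finset.univ.filter fun b : MulAut X => b ∈ f.range) ⊆ Finset.univ.filter fun b : MulAut X => b ^ e = 1 := by
    intro b hb
    rw [Finset.mem_filter] at hb ⊢
    refine ⟨hb.1, ?_⟩
    have h1 : (⟨b, hb.2⟩ : f.range) ^ e = 1 := by rw [← hR]; exact pow_card_eq_one'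
    exact congrArg Subtype.val h1
  have hcardR : (Finset.univ.filter fun b : MulAut X => b ∈ f.range).card = e := by
    rw [← hR, Nat.card_eq_fintype_card, Fintype.card_subtype]
  have heq := Finset.eq_of_subset_of_card_le hsub (by rw [hcardR]; exact IsCyclic.card_pow_eq_one_le he0)
  have hmem : a ∈ f.range := by
    have h1 : a ∈ Finset.univ.filter fun b : MulAut X => b ^ e = 1 := by
      rw [Finset.mem_filter]; exact ⟨Finset.mem_univ _, hae⟩
    rw [← heq, Finset.mem_filter] at h1
    exact h1.2
  obtain ⟨n, hn⟩ := hmem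
  rw [isConj_iff]
  refine ⟨(n : S), ?_⟩
  have h1 := congrArg (fun b : MulAut X => ((b ⟨x, mem_zpowers x⟩ : X) : S)) hn
  have h2 : ((f n ⟨x, mem_zpowers x⟩ : X) : S) = (n : S) * x * (n : S)⁻¹ := rfl
  rw [← h2]
  refine h1.trans ?_
  have h3 := ha 1 ⟨x, mem_zpowers x⟩
  rw [pow_one, pow_one] at h3
  show ((a ⟨x, mem_zpowers x⟩ : X) : S) = _
  rw [h3]
  rfl

end Cfsg.Agent.H306.QA
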